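import Cfsg.Agent.OddHalf.Iso5
set_option linter.all false

/-!
# Node D7: the cases

`lieTwo_cases`: a group `X` with `LieTwo X` and not `SmallRank X` belongs to one of the families `FamL`, `FamU`,
`FamSp`, `FamOPlus`, `FamOMinus`, `FamF4`, `FamE6`, `FamE7`, `FamE8`, `Fam2E6`, `Fam2F4` or is the Tits group.
`d7_cases`: the same for a subgroup `K` which is not `Listed`, with sharper conditions for `Sp_6(2)`, `O_8^+(2)`,
`F_4(2)`.
`d7_of`: node D7 from one node for each family.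
-/

set_option autoImplicit false

namespace Cfsg.Agent.OddHalf.D7.Cases

open Subgroup Cfsg Cfsg.Agent.OddHalf.Iface Cfsg.Agent.OddHalf.Iso5

universe u

/-- `PSL_n(2^a)`, `n ≥ 4`, `(n, a) ≠ (4, 1)`. -/
def FamL (X : Type u) [Group X] : Prop :=
  ∃ (F : Type) (_ : Field F) (_ : Fintype F) (a n : ℕ), 1 ≤ a ∧ Fintype.card F = 2 ^ a ∧ 4 ≤ n ∧
    (n = 4 → 2 ≤ a) ∧ Nonempty (X ≃* Matrix.ProjectiveSpecialLinearGroup (Fin n) F)

/-- `PSU_n(2^a)`, `n ≥ 6`. -/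
def FamU (X : Type u) [Group X] : Prop :=
  ∃ (F : Type) (_ : Field F) (_ : Fintype F) (a n : ℕ), 1 ≤ a ∧ Fintype.card F = 4 ^ a ∧ 6 ≤ n ∧
    Nonempty (X ≃* PSU n F (2 ^ a))

/-- `PSp_{2m}(2^a)`, `m ≥ 3`. -/
def FamSp (X : Type u) [Group X] : Prop :=
  ∃ (F : Type) (_ : Field F) (_ : Fintype F) (a m : ℕ), 1 ≤ a ∧ Fintype.card F = 2 ^ a ∧ 3 ≤ m ∧
    Nonempty (X ≃* PSp m F)

/-- `PΩ⁺_{2m}(2^a)`, `m ≥ 4`. -/
def FamOPlus (X : Type u) [Group X] : Prop :=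
  ∃ (F : Type) (_ : Field F) (_ : Fintype F) (a m : ℕ), 1 ≤ a ∧ Fintype.card F = 2 ^ a ∧ 4 ≤ m ∧
    Nonempty (X ≃* POmega F (quadFormPlus m F))

/-- `PΩ⁻_{2m}(2^a)`, `m ≥ 4`. -/
def FamOMinus (X : Type u) [Group X] : Prop :=
  ∃ (F : Type) (_ : Field F) (_ : Fintype F) (a m : ℕ) (b c : F), 1 ≤ a ∧ Fintype.card F = 2 ^ a ∧ 4 ≤ m ∧
    (∀ z₁ z₂ : F, z₁ ^ 2 + b * z₁ * z₂ + c * z₂ ^ 2 = 0 → z₁ = 0 ∧ z₂ = 0) ∧
    Nonempty (X ≃* POmega F (quadFormMinus (m - 1) F b c))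

/-- `F_4(2^a)`. -/
def FamF4 (X : Type u) [Group X] : Prop :=
  ∃ (F : Type) (_ : Field F) (_ : Fintype F) (a : ℕ), 1 ≤ a ∧ Fintype.card F = 2 ^ a ∧
    Nonempty (X ≃* ↥(Lie.chevF4.group F))

/-- `E_6(2^a)`. -/
def FamE6 (X : Type u) [Group X] : Prop :=
  ∃ (F : Type) (_ : Field F) (_ : Fintype F) (a : ℕ), 1 ≤ a ∧ Fintype.card F = 2 ^ a ∧
    Nonempty (X ≃* ↥(Lie.chevE6.group F))

/-- `E_7(2^a)`. -/
def FamE7 (X : Type u) [Group X] : Prop :=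
  ∃ (F : Type) (_ : Field F) (_ : Fintype F) (a : ℕ), 1 ≤ a ∧ Fintype.card F = 2 ^ a ∧
    Nonempty (X ≃* ↥(Lie.chevE7.group F))

/-- `E_8(2^a)`. -/
def FamE8 (X : Type u) [Group X] : Prop :=
  ∃ (F : Type) (_ : Field F) (_ : Fintype F) (a : ℕ), 1 ≤ a ∧ Fintype.card F = 2 ^ a ∧
    Nonempty (X ≃* ↥(Lie.chevE8.group F))

/-- `²E_6(2^a)`. -/
def Fam2E6 (X : Type u) [Group X] : Prop :=
  ∃ (F : Type) (_ : Field F) (_ : Fintype F) (a : ℕ), 1 ≤ a ∧ Fintype.card F = 4 ^ a ∧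
    Nonempty (X ≃* ↥(Lie.twistedE6 F (2 ^ a)))

/-- `²F_4(2^(2m+1))`, `m ≥ 1`. -/
def Fam2F4 (X : Type u) [Group X] : Prop :=
  ∃ (F : Type) (_ : Field F) (_ : Fintype F) (m : ℕ), 1 ≤ m ∧ Fintype.card F = 2 ^ (2 * m + 1) ∧
    Nonempty (X ≃* ↥(Lie.twistedF4 F (2 ^ m)))

/-- The groups of node D7. -/
def FamAll (X : Type u) [Group X] : Prop :=
  FamL X ∨ FamU X ∨ FamSp X ∨ FamOPlus X ∨ FamOMinus X ∨ FamF4 X ∨ FamE6 X ∨ FamE7 X ∨ FamE8 X ∨ Fam2E6 X ∨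
    Fam2F4 X ∨ Lie.IsoTits X

section

variable {X : Type u} [Group X]

theorem lieTwo_cases (h : LieTwo X) (hs : ¬ SmallRank X) : FamAll X := by
  obtain ⟨h, hA, hO⟩ := h
  rcases h with h | h
  swap
  · exact Or.inr (Or.inr (Or.inr (Or.inr (Or.inr (Or.inr (Or.inr (Or.inr (Or.inr (Or.inr (Or.inr h))))))))))
  rcases h with h | h | h | h | h | h | h | h | ⟨-, h⟩ | ⟨-, h⟩ | ⟨hp, -⟩
  · -- linear groups
    obtain ⟨F, _, _, _, n, h1, h2, ⟨e⟩⟩ := h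
    obtain ⟨a, ha, hF⟩ := card_two_pow (F := F)
    have h2n : n ≠ 2 := by
      rintro rfl
      have h4 := h2 rfl
      have ha2 : 2 ≤ a := by
        by_contra hlt
        have : a = 1 := by omega
        subst this
        omega
      exact hs (Or.inl ⟨F, _, _, a, ha2, hF, ⟨e⟩⟩)
    have h3n : n ≠ 3 := by
      rintro rfl
      rcases Nat.lt_or_ge a 2 with h4 | h4
      · have : a = 1 := by omega
        subst this
        exact hO (lieOdd_of_l32 (by simpa using hF) e)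
      · exact hs (Or.inr (Or.inr (Or.inr (Or.inl ⟨F, _, _, a, h4, hF, Or.inl ⟨e⟩⟩))))
    refine Or.inl ⟨F, _, _, a, n, ha, hF, by omega, ?_, ⟨e⟩⟩
    rintro rfl
    by_contra hlt
    have : a = 1 := by omega
    subst this
    exact hA (isAlternating_of_l42 (by simpa using hF) e)
  · -- symplectic groups
    obtain ⟨F, _, _, _, m, h1, h2, ⟨e⟩⟩ := h
    obtain ⟨a, ha, hF⟩ := card_two_pow (F := F)
    have h2m : m ≠ 2 := by
      rintro rfl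
      have h4 := h2 rfl
      have ha2 : 2 ≤ a := by
        by_contra hlt
        have : a = 1 := by omega
        subst this
        omega
      exact hs (Or.inr (Or.inr (Or.inr (Or.inl ⟨F, _, _, a, ha2, hF, Or.inr (Or.inl ⟨e⟩)⟩))))
    exact Or.inr (Or.inr (Or.inl ⟨F, _, _, a, m, ha, hF, by omega, ⟨e⟩⟩))
  · -- unitary groups
    obtain ⟨F, _, _, _, n, q, h1, h2, h3, ⟨e⟩⟩ := h
    obtain ⟨b, hb, hF⟩ := card_two_pow (F := F)
    obtain ⟨a, ha, hq⟩ := eq_two_pow (q := q) (k := 2) (a := b) two_ne_zero hb (by rw [← h1, hF])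
    have hF4 : Fintype.card F = 4 ^ a := by
      rw [h1, hq, ← pow_mul, mul_comm, pow_mul]
      norm_num
    subst hq
    have h3n : n ≠ 3 := by
      rintro rfl
      have ha2 : 2 ≤ a := by
        by_contra hlt
        have : a = 1 := by omega
        subst this
        exact h3 ⟨rfl, by norm_num⟩
      exact hs (Or.inr (Or.inl ⟨F, _, _, a, ha2, hF4, ⟨e⟩⟩))
    have h4n : n ≠ 4 := by
      rintro rfl
      rcases Nat.lt_or_ge a 2 with h4 | h4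
      · have : a = 1 := by omega
        subst this
        exact hO (lieOdd_of_u42 (by simpa using hF4) e)
      · exact hs (Or.inr (Or.inr (Or.inr (Or.inr (Or.inl ⟨F, _, _, a, h4, hF4, Or.inl ⟨e⟩⟩)))))
    have h5n : n ≠ 5 := by
      rintro rfl
      rcases Nat.lt_or_ge a 2 with h4 | h4
      · have : a = 1 := by omega
        subst this
        exact hs (Or.inr (Or.inr (Or.inr (Or.inr (Or.inr (Or.inl ⟨F, _, _, by simpa using hF4, ⟨e⟩⟩))))))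
      · exact hs (Or.inr (Or.inr (Or.inr (Or.inr (Or.inl ⟨F, _, _, a, h4, hF4, Or.inr ⟨e⟩⟩)))))
    exact Or.inr (Or.inl ⟨F, _, _, a, n, ha, hF4, by omega, ⟨e⟩⟩)
  · -- odd orthogonal groups
    obtain ⟨F, _, _, _, m, h1, h2, ⟨e⟩⟩ := h
    obtain ⟨a, ha, hF⟩ := card_two_pow (F := F)
    exfalso
    rw [hF] at h2
    have h3 : Even (2 ^ a) := by
      rw [Nat.even_pow]
      exact ⟨even_two, by omega⟩
    exact (Nat.not_even_iff_odd.mpr h2) h3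
  · -- `Ω⁺`
    obtain ⟨F, _, _, _, m, h1, ⟨e⟩⟩ := h
    obtain ⟨a, ha, hF⟩ := card_two_pow (F := F)
    exact Or.inr (Or.inr (Or.inr (Or.inl ⟨F, _, _, a, m, ha, hF, h1, ⟨e⟩⟩)))
  · -- `Ω⁻`
    obtain ⟨F, _, _, _, m, b, c, h1, h2, ⟨e⟩⟩ := h
    obtain ⟨a, ha, hF⟩ := card_two_pow (F := F)
    exact Or.inr (Or.inr (Or.inr (Or.inr (Or.inl ⟨F, _, _, a, m, b, c, ha, hF, h1, h2, ⟨e⟩⟩))))
  · -- untwisted exceptional groups
    obtain ⟨F, _, _, _, h⟩ := h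
    obtain ⟨a, ha, hF⟩ := card_two_pow (F := F)
    rcases h with ⟨h3, ⟨e⟩⟩ | ⟨⟨e⟩⟩ | ⟨⟨e⟩⟩ | ⟨⟨e⟩⟩ | ⟨⟨e⟩⟩
    · have ha2 : 2 ≤ a := by
        by_contra hlt
        have : a = 1 := by omega
        subst this
        omega
      exact absurd (Or.inr (Or.inr (Or.inr (Or.inl ⟨F, _, _, a, ha2, hF, Or.inr (Or.inr ⟨e⟩)⟩)))) hs
    · exact Or.inr (Or.inr (Or.inr (Or.inr (Or.inr (Or.inl ⟨F, _, _, a, ha, hF, ⟨e⟩⟩)))))
    · exact Or.inr (Or.inr (Or.inr (Or.inr (Or.inr (Or.inr (Or.inl ⟨F, _, _, a, ha, hF, ⟨e⟩⟩))))))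
    · exact Or.inr (Or.inr (Or.inr (Or.inr (Or.inr (Or.inr (Or.inr (Or.inl ⟨F, _, _, a, ha, hF, ⟨e⟩⟩)))))))
    · exact Or.inr (Or.inr (Or.inr (Or.inr (Or.inr (Or.inr (Or.inr (Or.inr
        (Or.inl ⟨F, _, _, a, ha, hF, ⟨e⟩⟩))))))))
  · -- twisted `E_6`, `D_4`
    obtain ⟨F, _, _, _, q, hq', h⟩ := h
    obtain ⟨b, hb, hF⟩ := card_two_pow (F := F)
    rcases h with ⟨h1, ⟨e⟩⟩ | ⟨h1, ⟨e⟩⟩
    · obtain ⟨a, ha, hq⟩ := eq_two_pow (q := q) (k := 2) (a := b) two_ne_zero hb (by rw [← h1, hF])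
      have hF4 : Fintype.card F = 4 ^ a := by
        rw [h1, hq, ← pow_mul, mul_comm, pow_mul]
        norm_num
      subst hq
      exact Or.inr (Or.inr (Or.inr (Or.inr (Or.inr (Or.inr (Or.inr (Or.inr (Or.inr
        (Or.inl ⟨F, _, _, a, ha, hF4, ⟨e⟩⟩)))))))))
    · obtain ⟨a, ha, hq⟩ := eq_two_pow (q := q) (k := 3) (a := b) three_ne_zero hb (by rw [← h1, hF])
      have hF8 : Fintype.card F = 8 ^ a := by
        rw [h1, hq, ← pow_mul, mul_comm, pow_mul]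
        norm_num
      subst hq
      exact absurd (Or.inr (Or.inr (Or.inr (Or.inr (Or.inr (Or.inr ⟨F, _, _, a, ha, hF8, ⟨e⟩⟩)))))) hs
  · -- Suzuki groups
    obtain ⟨F, _, _, m, h1, h2, ⟨e⟩⟩ := h
    exact absurd (Or.inr (Or.inr (Or.inl ⟨F, _, _, m, h1, h2, ⟨e⟩⟩))) hs
  · -- Ree groups in characteristic 2
    obtain ⟨F, _, _, m, h1, h2, ⟨e⟩⟩ := h
    exact Or.inr (Or.inr (Or.inr (Or.inr (Or.inr (Or.inr (Or.inr (Or.inr (Or.inr (Or.inr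
      (Or.inl ⟨F, _, _, m, h1, h2, ⟨e⟩⟩))))))))))
  · omega

end

/-! ### The cases for a standard subgroup which is not listed -/

/-- `PSp_{2m}(2^a)`, `m ≥ 3`, `(m, a) ≠ (3, 1)`. -/
def FamSp' (X : Type u) [Group X] : Prop :=
  ∃ (F : Type) (_ : Field F) (_ : Fintype F) (a m : ℕ), 1 ≤ a ∧ Fintype.card F = 2 ^ a ∧ 3 ≤ m ∧
    (m = 3 → 2 ≤ a) ∧ Nonempty (X ≃* PSp m F)

/-- `PΩ⁺_{2m}(2^a)`, `m ≥ 4`, `(m, a) ≠ (4, 1)`. -/
def FamOPlus' (X : Type u) [Group X] : Prop :=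
  ∃ (F : Type) (_ : Field F) (_ : Fintype F) (a m : ℕ), 1 ≤ a ∧ Fintype.card F = 2 ^ a ∧ 4 ≤ m ∧
    (m = 4 → 2 ≤ a) ∧ Nonempty (X ≃* POmega F (quadFormPlus m F))

/-- `F_4(2^a)`, `a ≥ 2`. -/
def FamF4' (X : Type u) [Group X] : Prop :=
  ∃ (F : Type) (_ : Field F) (_ : Fintype F) (a : ℕ), 2 ≤ a ∧ Fintype.card F = 2 ^ a ∧
    Nonempty (X ≃* ↥(Lie.chevF4.group F))

section

variable {G : Type u} [Group G] {K : Subgroup G}

theorem d7_cases (h : LieTwo ↥K) (hs : ¬ SmallRank ↥K) (hl : ¬ Listed K) :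
    FamL ↥K ∨ FamU ↥K ∨ FamSp' ↥K ∨ FamOPlus' ↥K ∨ FamOMinus ↥K ∨ FamF4' ↥K ∨ FamE6 ↥K ∨ FamE7 ↥K ∨
      FamE8 ↥K ∨ Fam2E6 ↥K ∨ Fam2F4 ↥K ∨ Lie.IsoTits ↥K := by
  rcases lieTwo_cases h hs with h | h | h | h | h | h | h | h | h | h | h | h
  · exact Or.inl h
  · exact Or.inr (Or.inl h)
  · obtain ⟨F, _, _, a, m, ha, hF, hm, ⟨e⟩⟩ := h
    refine Or.inr (Or.inr (Or.inl ⟨F, _, _, a, m, ha, hF, hm, ?_, ⟨e⟩⟩))
    rintro rfl
    by_contra hlt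
    have : a = 1 := by omega
    subst this
    exact hl (Or.inr (Or.inr (Or.inr (Or.inl ⟨F, _, _, by simpa using hF, Or.inl ⟨e⟩⟩))))
  · obtain ⟨F, _, _, a, m, ha, hF, hm, ⟨e⟩⟩ := h
    refine Or.inr (Or.inr (Or.inr (Or.inl ⟨F, _, _, a, m, ha, hF, hm, ?_, ⟨e⟩⟩)))
    rintro rfl
    by_contra hlt
    have : a = 1 := by omega
    subst this
    exact hl (Or.inr (Or.inr (Or.inr (Or.inl ⟨F, _, _, by simpa using hF, Or.inr ⟨e⟩⟩))))
  · exact Or.inr (Or.inr (Or.inr (Or.inr (Or.inl h))))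
  · obtain ⟨F, _, _, a, ha, hF, ⟨e⟩⟩ := h
    refine Or.inr (Or.inr (Or.inr (Or.inr (Or.inr (Or.inl ⟨F, _, _, a, ?_, hF, ⟨e⟩⟩)))))
    by_contra hlt
    have : a = 1 := by omega
    subst this
    exact hl (Or.inr (Or.inr (Or.inr (Or.inr (Or.inr (Or.inr (Or.inl ⟨F, _, _, by simpa using hF, ⟨e⟩⟩)))))))
  · exact Or.inr (Or.inr (Or.inr (Or.inr (Or.inr (Or.inr (Or.inl h))))))
  · exact Or.inr (Or.inr (Or.inr (Or.inr (Or.inr (Or.inr (Or.inr (Or.inl h)))))))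
  · exact Or.inr (Or.inr (Or.inr (Or.inr (Or.inr (Or.inr (Or.inr (Or.inr (Or.inl h))))))))
  · exact Or.inr (Or.inr (Or.inr (Or.inr (Or.inr (Or.inr (Or.inr (Or.inr (Or.inr (Or.inl h)))))))))
  · exact Or.inr (Or.inr (Or.inr (Or.inr (Or.inr (Or.inr (Or.inr (Or.inr (Or.inr (Or.inr (Or.inl h))))))))))
  · exact Or.inr (Or.inr (Or.inr (Or.inr (Or.inr (Or.inr (Or.inr (Or.inr (Or.inr (Or.inr (Or.inr h))))))))))

end

/-! ### Node D7 from one node for each family -/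

/-- Node D7 for the groups `K` with property `P`. -/
def Node (P : ∀ (X : Type u) [Group X], Prop) : Prop :=
  ∀ (G : Type u) [Group G], Ctx G → ∀ K : Subgroup G, Std G K → Cyc K → P ↥K → False

theorem d7_of (hL : Node.{u} @FamL.{u}) (hU : Node.{u} @FamU.{u}) (hSp : Node.{u} @FamSp'.{u})
    (hOp : Node.{u} @FamOPlus'.{u}) (hOm : Node.{u} @FamOMinus.{u}) (hF4 : Node.{u} @FamF4'.{u})
    (hE6 : Node.{u} @FamE6.{u}) (hE7 : Node.{u} @FamE7.{u}) (hE8 : Node.{u} @FamE8.{u})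
    (h2E6 : Node.{u} @Fam2E6.{u}) (h2F4 : Node.{u} @Fam2F4.{u}) (hT : Node.{u} @Lie.IsoTits.{u}) : D7.{u} := by
  intro G _ C K S c h hs hl
  rcases d7_cases h hs hl with h | h | h | h | h | h | h | h | h | h | h | h
  · exact hL G C K S c h
  · exact hU G C K S c h
  · exact hSp G C K S c h
  · exact hOp G C K S c h
  · exact hOm G C K S c h
  · exact hF4 G C K S c h
  · exact hE6 G C K S c h
  · exact hE7 G C K S c h
  · exact hE8 G C K S c h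
  · exact h2E6 G C K S c h
  · exact h2F4 G C K S c h
  · exact hT G C K S c h

end Cfsg.Agent.OddHalf.D7.Cases
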